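import Groth.Agent.Lib.Ample18.Ample
import Groth.Agent.Lib.Ample18.Separated
import Groth.Agent.Lib.AmpleFin18.Proj
import Groth.Agent.Lib.TensorMod.QCohTensor
import Groth.Agent.Lib.CBC10.Cech
import Mathlib.RingTheory.Flat.EquationalCriterion

/-!
# Flatness over an affine non-vanishing locus from flatness of the sections of large twists
-/

set_option autoImplicit false
set_option linter.style.haveILetI false
set_option maxHeartbeats 1000000
set_option backward.isDefEq.respectTransparency false

universe u

open CategoryTheory CategoryTheory.Limits AlgebraicGeometry TopologicalSpace Opposite MonoidalCategory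

noncomputable section

namespace Groth.Agent.FlatTwist13

open Groth.Agent.CBC10 Groth.Agent.Amp
open Groth.Agent.M2 (tsec res)

attribute [local instance] secA

variable {A : Type u} [CommRing A] {X : Scheme.{u}} [X.Over (Spec (CommRingCat.of A))]

theorem tensorComm_tsec' (P Q : X.Modules) {U : X.Opens} (s : Γ(P, U)) (t : Γ(Q, U)) :
    (M2.tensorComm P Q).hom.app U (tsec P Q s t) = tsec Q P t s := by
  have h := congrArg (fun φ => φ.app (op U) (M2.tm (M2.pm P) (M2.pm Q) s t))
    (M2.unitS_naturality (β_ (M2.pm P) (M2.pm Q)).hom)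
  exact h.symm

theorem bijective_tsec_right {E G : X.Modules} {U : X.Opens} {e : Γ(E, U)} (he : Twist.IsGen E U e)
    {V : X.Opens} (hV : V ≤ U) :
    Function.Bijective fun s : Γ(G, V) => tsec G E s (M1.mres E hV e) := by
  have h1 := AmpleFin18.bijective_tsec (G := G) he hV
  have h2 : Function.Bijective ((M2.tensorComm E G).hom.app V) :=
    ConcreteCategory.bijective_of_isIso _
  convert h2.comp h1 using 1
  funext s
  exact (tensorComm_tsec' E G _ _).symm

variable (A) in
/-- Multiplication by a section, linearly. -/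
def twL (P Q : X.Modules) {V : X.Opens} (e : Γ(Q, V)) : Γ(P, V) →ₗ[A] Γ(CohB1.tensorMod P Q, V) where
  toFun s := tsec P Q s e
  map_add' _ _ := M2.tsec_add_left _ _ _
  map_smul' a s := by
    rw [secA_smul, secA_smul, RingHom.id_apply]
    exact M2.tsec_smul_left _ _ _

theorem isTrivialRelation_congr {R M N : Type u} [CommRing R] [AddCommGroup M] [Module R M] [AddCommGroup N]
    [Module R N] {ι : Type} [Fintype ι] (e : M ≃ₗ[R] N) (f : ι → R) (x : ι → M)
    (h : Module.IsTrivialRelation f (e ∘ x)) : Module.IsTrivialRelation f x := by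
  obtain ⟨k, c, y, hx, hc⟩ := h
  refine ⟨k, c, e.symm ∘ y, fun i => e.injective ?_, hc⟩
  simpa [map_sum, map_smul] using hx i

/-- If sections of all large twists by a power of `M` are flat, so are sections over an affine locus of `M`. -/
theorem flat_genLocus [CompactSpace X] [QuasiSeparatedSpace X] {M : X.Modules} (hM : PicF.IsInvertible M)
    (s : Coh.structureModule X ⟶ M) (F : X.Modules) [Coh.IsQCoh F] (N : ℕ)
    (hflat : ∀ n m : ℕ, N ≤ n → Module.Flat A
      Γ(CohB1.tensorMod (CohB1.tensorMod F (CohB1.tensorPow M n)) (CohB1.tensorPow M m), ⊤)) :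
    Module.Flat A Γ(F, CohB1.genLocus M s) := by
  let G := CohB1.genLocus M s
  rw [Module.Flat.iff_forall_isTrivialRelation]
  intro l a x hax
  choose n₀ hn₀ using fun i => exists_extend_genLocus hM s F (x i)
  let n := max N (Finset.univ.sup n₀)
  choose t ht using fun i => hn₀ i n ((Finset.le_sup (Finset.mem_univ i)).trans (le_max_right _ _))
  let F' := CohB1.tensorMod F (CohB1.tensorPow M n)
  haveI : Coh.IsQCoh F' := M2.isQCoh_tensor ‹_›
    (M2.isQCoh_of_isFinLocFree (M2.isFinLocFree_of_isInvertible (isInvertible_tensorPow hM n)))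
  let g : Γ(M, G) := res M le_top (gval s)
  have hg : Twist.IsGen M G g := isGenerator_genLocus hM s
  have hgen : ∀ k : ℕ, Twist.IsGen (CohB1.tensorPow M k) G (pw g k) := fun k =>
    Twist.isGen_of_stalk fun _ hz => Amp.gen_pw hM hz g k (hg.stalk hz)
  have hres0 : res F' (le_top : G ≤ ⊤) (∑ i, a i • t i) = 0 := by
    show resL A F' (le_top : G ≤ ⊤) (∑ i, a i • t i) = 0
    rw [map_sum]
    have h1 : ∀ i, resL A F' (le_top : G ≤ ⊤) (a i • t i) =
        a i • twL A F (CohB1.tensorPow M n) (pw g n) (x i) := fun i => by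
      rw [map_smul]
      exact congrArg (a i • ·) (ht i)
    rw [Finset.sum_congr rfl fun i _ => h1 i]
    exact (Finset.sum_congr rfl fun i _ => (map_smul (twL A F (CohB1.tensorPow M n) (pw g n)) (a i) (x i)).symm).trans
      ((map_sum (twL A F (CohB1.tensorPow M n) (pw g n)) _ _).symm.trans (by rw [hax, map_zero]))
  obtain ⟨m, hm⟩ := exists_kill_of_res_genLocus hM s F' _ hres0
  let tw := twL A F' (CohB1.tensorPow M m) (pw (gval s) m)
  have hrel : ∑ i, a i • tw (t i) = 0 := by
    exact (Finset.sum_congr rfl fun i _ => (map_smul tw (a i) (t i)).symm).trans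
      ((map_sum tw _ _).symm.trans (hm m le_rfl))
  haveI := hflat n m (le_max_left _ _)
  obtain ⟨k, c, y, hy, hc⟩ := Module.Flat.isTrivialRelation_of_sum_smul_eq_zero hrel
  let φ : Γ(F, G) →ₗ[A] Γ(CohB1.tensorMod F' (CohB1.tensorPow M m), G) :=
    twL A F' (CohB1.tensorPow M m) (pw g m) ∘ₗ twL A F (CohB1.tensorPow M n) (pw g n)
  have hφ : Function.Bijective φ := by
    have h1 := bijective_tsec_right (G := F) (hgen n) (le_refl G)
    have h2 := bijective_tsec_right (G := F') (hgen m) (le_refl G)
    simp only [M1.mres_id] at h1 h2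
    exact h2.comp h1
  refine isTrivialRelation_congr (LinearEquiv.ofBijective φ hφ) a x
    ⟨k, c, fun j => resL A _ (le_top : G ≤ ⊤) (y j), fun i => ?_, hc⟩
  have h := congrArg (resL A _ (le_top : G ≤ ⊤)) (hy i)
  rw [map_sum] at h
  simp only [map_smul] at h
  refine Eq.trans ?_ h
  show φ (x i) = M1.mres _ (le_top : G ≤ ⊤) (tsec F' (CohB1.tensorPow M m) (t i) (pw (gval s) m))
  refine Eq.trans ?_ (M2.res_tsec _ _ _).symm
  show tsec F' (CohB1.tensorPow M m) (tsec F (CohB1.tensorPow M n) (x i) (pw g n)) (pw g m) = _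
  exact congrArg₂ (fun p q => tsec F' (CohB1.tensorPow M m) p q) (ht i).symm (res_pw _ (gval s) m).symm

end Groth.Agent.FlatTwist13
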