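import Groth.Agent.Lib.FlatTwist13.H0Flat
import Groth.Agent.Lib.FlatTwist13.RevFlat
import Groth.Agent.Lib.StalkCoh13.Main
import Groth.Agent.Lib.CBC10.Local
import Groth.Agent.Lib.CohFound.RelVan
import Groth.Agent.Lib.CurveCoh17.Skyscraper
import Groth.Agent.Lib.PureClosed13.Rank
import Groth.Agent.Lib.AlgSpDecent.FieldDim
import Groth.Agent.Lib.RelAmple18.Ops
import Groth.Agent.Lib.FlatH4.ModFlatAt
import Groth.Agent.Lib.TensorMod.Invertible
import Groth.Agent.Lib.KFlat.LpullPC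
import Mathlib.RingTheory.Flat.Localization

/-!
# Flatness over the base and the direct images of large twists
-/

set_option autoImplicit false
set_option linter.style.haveILetI false
set_option maxHeartbeats 1000000
set_option backward.isDefEq.respectTransparency false
set_option backward.isDefEq.respectTransparency.types false

universe u

open CategoryTheory CategoryTheory.Limits AlgebraicGeometry TopologicalSpace Opposite TensorProduct

noncomputable section

namespace Groth.Agent.FlatTwist13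

open Groth.Agent.CBC10 Groth.Agent.CohFound
open Groth.Agent.M2 (tsec res)

attribute [local instance] secA

variable {X Y : Scheme.{u}} (f : X ⟶ Y)

theorem isFlatOver_tensor {F P : X.Modules} (hF : FlatMod.IsFlatOver f F) (hP : PicF.IsInvertible P) :
    FlatMod.IsFlatOver f (CohB1.tensorMod F P) := fun x => by
  obtain ⟨U, e, hxU, -, -, he⟩ := Amp.exists_isGenerator hP (V := ⊤) (x := x) trivial
  have hb : Function.Bijective (LinearMap.toSpanSingleton (X.presheaf.stalk x) (P.presheaf.stalk x)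
      (P.presheaf.germ U x hxU e)) := Twist.IsGen.stalk he hxU
  let q : (F.presheaf.stalk x : Type u) ≃ₗ[X.presheaf.stalk x] ((CohB1.tensorMod F P).presheaf.stalk x : Type u) :=
    (TensorProduct.rid _ _).symm.trans
      ((LinearEquiv.lTensor _ (LinearEquiv.ofBijective _ hb)).trans (M2.stalkEquiv F P x).symm)
  letI := FlatMod.moduleStalkOver f F x
  letI := FlatMod.moduleStalkOver f (CohB1.tensorMod F P) x
  haveI : Module.Flat (Y.presheaf.stalk (f x)) (F.presheaf.stalk x) := hF x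
  let q' : (F.presheaf.stalk x : Type u) ≃ₗ[Y.presheaf.stalk (f x)]
      ((CohB1.tensorMod F P).presheaf.stalk x : Type u) :=
    q.toAddEquiv.toLinearEquiv fun c m => q.map_smul ((f.stalkMap x).hom c) m
  exact Module.Flat.of_linearEquiv q'.symm

/-- `H⁰` is the module of global sections, linearly. -/
def h0Equiv {A : Type u} [CommRing A] {Z : Scheme.{u}} [Z.Over (Spec (CommRingCat.of A))] (M : Z.Modules) :
    Coh.HH Z M 0 ≃ₗ[A] Γ(M, ⊤) :=
  (CurveCoh17.hh0 M).toLinearEquiv fun a x => by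
    refine (CurveCoh17.hh0_smul (Coh.toGlobal (Z ↘ Spec (CommRingCat.of A)) a) x).trans ?_
    rw [secA_smul]
    congr 1
    exact (M1.ores_id (le_refl (⊤ : Z.Opens)) _).symm

variable [IsProper f] [HasInjectiveResolutions X.Modules]

/-- Sections of the direct image over an affine open. -/
theorem exists_sectionsEquiv {G : X.Modules} (hG : Coh.IsQCoh G) {W : Y.Opens} (hW : IsAffineOpen W) :
    letI := overU f hW
    Nonempty (Γ((Coh.push f).obj G, W) ≃ₗ[Γ(Y, W)] Coh.HH (f ⁻¹ᵁ W : X.Opens).toScheme (resU f G W) 0) := by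
  letI := overU f hW
  obtain ⟨θ⟩ := StalkCoh13.nonempty_sectionsEquiv f hG 0 hW
  let r : (Coh.Rpush f 0).obj G ≅ (Coh.push f).obj G := (Coh.push f).rightDerivedZeroIsoSelf.app G
  let l : Γ((Coh.Rpush f 0).obj G, W) →ₗ[Γ(Y, W)] Γ((Coh.push f).obj G, W) :=
    { toFun := r.hom.app W
      map_add' := map_add _
      map_smul' := Scheme.Modules.Hom.app_smul r.hom }
  let e : Γ((Coh.push f).obj G, W) ≃ₗ[Γ(Y, W)] Γ((Coh.Rpush f 0).obj G, W) :=
    (LinearEquiv.ofBijective l (ConcreteCategory.bijective_of_isIso (r.hom.app W))).symm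
  exact ⟨e.trans θ⟩

theorem isFinLocFree_push [IsNoetherian Y] {F L : X.Modules} (hF : Coh.IsCoh F)
    (hfl : FlatMod.IsFlatOver f F) (hL : RelAmple.IsRelAmple f L) :
    ∃ N : ℕ, ∀ n, N ≤ n →
      FlatMod.IsFinLocFree ((Coh.push f).obj (CohB1.tensorMod F (CohB1.tensorPow L n))) := by
  classical
  have hLi := RA.isInvertible_of_isRelAmple f hL
  obtain ⟨ι, hfin, W, hW, hWa⟩ := exists_finite_affine_cover Y
  have hP : ∀ i, ∃ N : ℕ, ∀ n, N ≤ n → ∀ p : ℕ, 0 < p →
      letI := overU f (hWa i)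
      Subsingleton (Coh.HH (f ⁻¹ᵁ W i : X.Opens).toScheme
        (resU f (CohB1.tensorMod F (CohB1.tensorPow L n)) (W i)) p) := fun i => by
    letI := overU f (hWa i)
    haveI := isProper_overU f (hWa i)
    haveI : IsNoetherianRing Γ(Y, W i) := IsLocallyNoetherian.component_noetherian ⟨W i, hWa i⟩
    obtain ⟨N, hN⟩ := exists_vanishing_all ((f ⁻¹ᵁ W i : X.Opens).toScheme ↘ Spec (CommRingCat.of Γ(Y, W i)))
      (hL.2 ⟨W i, hWa i⟩) (isCoh_resU (f := f) (U := W i) hF)
    refine ⟨N, fun n hn p hp => ?_⟩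
    haveI := (subsingleton_HH_iff _ _).2 (hN n hn p hp)
    exact (hmapEquiv (M2.restrictTensorIso _ F _ ≪≫
      M2.tensorIso (Iso.refl _) (M2.restrictTensorPowIso _ L n)) p).toEquiv.subsingleton
  choose N hN using hP
  haveI := Fintype.ofFinite ι
  refine ⟨Finset.univ.sup N, fun n hn => ?_⟩
  let G := CohB1.tensorMod F (CohB1.tensorPow L n)
  have hGc : Coh.IsCoh G := CohFound.isCoh_tensor hF (CohFound.isCoh_of_isFinLocFree
    (M2.isFinLocFree_of_isInvertible (Amp.isInvertible_tensorPow hLi n)))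
  have hGfl : FlatMod.IsFlatOver f G := isFlatOver_tensor f hfl (Amp.isInvertible_tensorPow hLi n)
  have hpush : Coh.IsQCoh ((Coh.push f).obj G) := M1.isQCoh_push f hGc.1
  have hfinW : ∀ (V : Y.Opens), IsAffineOpen V → Module.Finite Γ(Y, V) Γ((Coh.push f).obj G, V) := fun V hV => by
    letI := overU f hV
    haveI := isProper_overU f hV
    haveI : IsNoetherianRing Γ(Y, V) := IsLocallyNoetherian.component_noetherian ⟨V, hV⟩
    obtain ⟨θ⟩ := exists_sectionsEquiv f hGc.1 hV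
    haveI := finite_HH_of_isProper (A := Γ(Y, V)) _ (isCoh_resU (f := f) (U := V) hGc) 0
    exact Module.Finite.equiv θ.symm
  refine PureClosed13.isFinLocFree_of_flat hpush (M1.isFT_of_finite_sections hpush hfinW) ?_
    (fun Z hZ hg => AlgSpDecent.isOpen_of_isClosed_stableUnderGeneralization hZ hg)
  intro y
  obtain ⟨i, hy⟩ := Opens.mem_iSup.1 (hW (show y ∈ (⊤ : Y.Opens) from trivial))
  letI := overU f (hWa i)
  haveI := isProper_overU f (hWa i)
  haveI : CompactSpace (f ⁻¹ᵁ W i : X.Opens).toScheme :=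
    QuasiCompact.compactSpace_of_compactSpace ((f ⁻¹ᵁ W i : X.Opens).toScheme ↘ Spec (CommRingCat.of Γ(Y, W i)))
  haveI : ((f ⁻¹ᵁ W i : X.Opens).toScheme).IsSeparated := ⟨by
    rw [← terminal.comp_from ((f ⁻¹ᵁ W i : X.Opens).toScheme ↘ Spec (CommRingCat.of Γ(Y, W i)))]
    infer_instance⟩
  obtain ⟨θ⟩ := exists_sectionsEquiv f hGc.1 (hWa i)
  haveI := flat_HH_zero (A := Γ(Y, W i)) (M1.isQCoh_restrict hGc.1 (f ⁻¹ᵁ W i).ι)
    (isFlatOver_resU (f := f) (U := W i) hGc.1 hGfl (hWa i))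
    (hN i n ((Finset.le_sup (Finset.mem_univ i)).trans hn))
  haveI : Module.Flat Γ(Y, W i) Γ((Coh.push f).obj G, W i) := Module.Flat.of_linearEquiv θ
  exact PureClosed13.flat_stalk_of_flat_sections hpush (hWa i) hy

theorem flat_localized_of_flat' {A T M : Type u} [CommRing A] [CommRing T] [Algebra A T] [AddCommGroup M]
    [Module A M] [Module T M] [IsScalarTower A T M] [Module.Flat A M] (q : Ideal T) [q.IsPrime] :
    Module.Flat A (LocalizedModule q.primeCompl M) := by
  rw [FlatH4.flat_localized_iff]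
  intro J x hx
  exact ⟨1, fun h => ‹q.IsPrime›.ne_top (q.eq_top_iff_one.2 h), by
    rw [one_smul]
    exact Module.Flat.lTensor_preserves_injective_linearMap J.subtype J.injective_subtype
      (by rw [hx, map_zero])⟩

theorem ρ_overU {W : Y.Opens} (hW : IsAffineOpen W) (G : (f ⁻¹ᵁ W : X.Opens).toScheme.Opens)
    (hG : (f ⁻¹ᵁ W).ι ''ᵁ G ≤ f ⁻¹ᵁ W) (a : Γ(Y, W)) :
    letI := overU f hW
    (ρ Γ(Y, W) G a : Γ(X, (f ⁻¹ᵁ W).ι ''ᵁ G)) = f.appLE W ((f ⁻¹ᵁ W).ι ''ᵁ G) hG a := by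
  letI := overU f hW
  have e : ((Scheme.ΓSpecIso Γ(Y, W)).inv ≫ (f ∣_ W ≫ hW.isoSpec.hom).appTop) ≫
      (f ⁻¹ᵁ W : X.Opens).toScheme.presheaf.map (homOfLE (le_top : G ≤ ⊤)).op =
      f.appLE W ((f ⁻¹ᵁ W).ι ''ᵁ G) hG := by
    rw [Scheme.Hom.comp_appTop, IsAffineOpen.isoSpec_hom_appTop, morphismRestrict_appTop]
    simp [Scheme.Hom.app_eq_appLE, Scheme.Hom.appLE_map, Scheme.Hom.map_appLE]
  exact ConcreteCategory.congr_hom e a

theorem isFlatOver_of_push [IsNoetherian Y] {F L : X.Modules} (hF : Coh.IsCoh F)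
    (hL : RelAmple.IsRelAmple f L) (N : ℕ)
    (h : ∀ n, N ≤ n → FlatMod.IsFinLocFree ((Coh.push f).obj (CohB1.tensorMod F (CohB1.tensorPow L n)))) :
    FlatMod.IsFlatOver f F := by
  intro x
  have hLi := RA.isInvertible_of_isRelAmple f hL
  obtain ⟨W, hW, hxW, -⟩ := exists_isAffineOpen_mem_and_subset (U := ⊤) (x := f x) trivial
  letI := overU f hW
  haveI := isProper_overU f hW
  let Z : Scheme.{u} := (f ⁻¹ᵁ W : X.Opens)
  haveI : CompactSpace Z := QuasiCompact.compactSpace_of_compactSpace (Z ↘ Spec (CommRingCat.of Γ(Y, W)))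
  haveI : QuasiSeparatedSpace Z := quasiSeparatedSpace_of_quasiSeparated (Z ↘ Spec (CommRingCat.of Γ(Y, W)))
  let LW : Z.Modules := L.restrict (f ⁻¹ᵁ W).ι
  obtain ⟨k, G, ⟨s, hs⟩, hzG, -, hGa⟩ := Amp.exists_hasSec_le (hL.2 ⟨W, hW⟩ : CohB1.IsAmple LW)
    (x := (⟨x, hxW⟩ : Z)) (V := ⊤) trivial
  let M := CohB1.tensorPow LW (k + 1)
  have hM : PicF.IsInvertible M := Amp.isInvertible_tensorPow (M2.isInvertible_restrict hLi _) _
  haveI : Coh.IsQCoh (resU f F W) := M1.isQCoh_restrict hF.1 _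
  have hflat : ∀ n m : ℕ, N ≤ n → Module.Flat Γ(Y, W)
      Γ(CohB1.tensorMod (CohB1.tensorMod (resU f F W) (CohB1.tensorPow M n)) (CohB1.tensorPow M m), ⊤) := by
    intro n m hn
    let G' := CohB1.tensorMod F (CohB1.tensorPow L ((k + 1) * (n + m)))
    have hG' : Coh.IsQCoh G' := (CohFound.isCoh_tensor hF (CohFound.isCoh_of_isFinLocFree
      (M2.isFinLocFree_of_isInvertible (Amp.isInvertible_tensorPow hLi _)))).1
    have hle : N ≤ (k + 1) * (n + m) := by
      have : n + m ≤ (k + 1) * (n + m) := Nat.le_mul_of_pos_left _ k.succ_pos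
      omega
    haveI : Module.Flat Γ(Y, W) Γ((Coh.push f).obj G', W) := by
      refine PureClosed13.flat_sections (M1.isQCoh_push f hG') ?_ hW
      exact KFlat.Sch.isFlat_of_isFinLocFree (h _ hle)
    obtain ⟨θ⟩ := exists_sectionsEquiv f hG' hW
    haveI : Module.Flat Γ(Y, W) (Coh.HH Z (resU f G' W) 0) := Module.Flat.of_linearEquiv θ.symm
    haveI : Module.Flat Γ(Y, W) Γ(resU f G' W, (⊤ : Z.Opens)) := Module.Flat.of_linearEquiv (h0Equiv _).symm
    let e : resU f G' W ≅ CohB1.tensorMod (CohB1.tensorMod (resU f F W) (CohB1.tensorPow M n)) (CohB1.tensorPow M m) :=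
      M2.restrictTensorIso _ F _ ≪≫ M2.tensorIso (Iso.refl _) (M2.restrictTensorPowIso _ L _ ≪≫
        (M2.tensorPowPow LW (k + 1) (n + m)).symm ≪≫ M2.tensorPowAdd M n m) ≪≫ (M2.tensorAssoc _ _ _).symm
    exact Module.Flat.of_linearEquiv (LinearEquiv.ofBijective (appL Γ(Y, W) e.hom ⊤)
      (ConcreteCategory.bijective_of_isIso (e.hom.app ⊤))).symm
  have hfl := flat_genLocus (A := Γ(Y, W)) hM s (resU f F W) N hflat
  rw [hs] at hfl
  haveI := hF.1
  let U' : X.Opens := (f ⁻¹ᵁ W).ι ''ᵁ G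
  have hU' : IsAffineOpen U' := hGa.image_of_isOpenImmersion _
  have hle : U' ≤ f ⁻¹ᵁ W := ((f ⁻¹ᵁ W).ι.image_le_opensRange G).trans (Scheme.Opens.opensRange_ι _).le
  have hxU' : x ∈ U' := ⟨⟨x, hxW⟩, hzG, rfl⟩
  letI := (f.appLE W U' hle).hom.toAlgebra
  letI := FlatH4.secModuleOver f F W U' hle
  haveI : IsScalarTower Γ(Y, W) Γ(X, U') Γ(F, U') := IsScalarTower.of_algebraMap_smul fun _ _ => rfl
  let q : Γ(resU f F W, G) ≃ₗ[Γ(Y, W)] Γ(F, U') :=
    { toFun := fun s => (F.restrictAppIso (f ⁻¹ᵁ W).ι G).hom s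
      map_add' := map_add _
      map_smul' := fun a s => by
        rw [secA_smul, RingHom.id_apply, Scheme.Modules.smul_restrictAppIso_hom_apply]
        refine congrArg (· • (F.restrictAppIso (f ⁻¹ᵁ W).ι G).hom s) ?_
        rw [Scheme.Opens.ι_appIso]
        exact ρ_overU f hW G hle a
      invFun := fun s => (F.restrictAppIso (f ⁻¹ᵁ W).ι G).inv s
      left_inv := fun s => by simp
      right_inv := fun s => by simp }
  haveI : Module.Flat Γ(Y, W) Γ(F, U') := Module.Flat.of_linearEquiv q.symm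
  exact (FlatH4.isFlatOverAt_iff f F W hW U' hU' hle hxU').2 (flat_localized_of_flat' _)

/-- Flatness is local freeness of the direct images of all large twists. -/
theorem isFlatOver_iff [IsNoetherian Y] {F L : X.Modules} (hF : Coh.IsCoh F) (hL : RelAmple.IsRelAmple f L) :
    FlatMod.IsFlatOver f F ↔ ∃ N : ℕ, ∀ n, N ≤ n →
      FlatMod.IsFinLocFree ((Coh.push f).obj (CohB1.tensorMod F (CohB1.tensorPow L n))) :=
  ⟨fun h => isFinLocFree_push f hF h hL, fun ⟨N, hN⟩ => isFlatOver_of_push f hF hL N hN⟩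

end Groth.Agent.FlatTwist13
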